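import Cfsg.Agent.LeechMat.Orbit
import Cfsg.Agent.Leech.Basic
import Cfsg.Agent.H633.Ore.Lin
import Cfsg.Agent.H819.TypeTwoC
import Cfsg.Agent.LeechMat.Quick
import Cfsg.Agent.FastGrp
import Cfsg.Agent.Prune
set_option linter.all false
prune_inst 0x7f00000000000000000000000000000000000000000000000000000000000000000000000000000000000000000000000000000000000000000000000000000000000000000000000000000000000000003fffffffffffffffffffffffffffbeffbdffffffff
open scoped Cfsg.Agent.FastGrp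

-- part: H612/CoT/Gens
section
/-!
# Generators of `Co2` and the code of a lattice vector (helper612)

`tt k : Spor.Co2`: three involutions (classes 2A, 2C, 2B); `cdv x`: 22 bits `(x, del k) / 8 mod 2` for the dual basis
`del` (coordinates of `x` modulo `2 Λ + ℤ U` in the basis `bet`); `cdv_tt`: the generators act on codes by matrices.
-/

set_option autoImplicit false
set_option maxRecDepth 100000

namespace Cfsg.Agent.H612.CoT.Gens

open Cfsg Cfsg.Agent.LeechMat.Code Cfsg.Agent.LeechMat.Core Cfsg.Agent.LeechMat.Gen Cfsg.Agent.LeechMat.Elements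
  Cfsg.Agent.LeechMat.Orbit Cfsg.Agent.H633.Ore

/-! ### data -/

def cols0 : List ℕ := [0xb420e8420e83a10841d0841d284212, 0x84a50739d07424e94a0e73a10939d0, 0x849d0949d07425274a1294a10939d0, 0x84a5094a507424e74a0e93a1074a50, 0x7420e8420e83a10841d0841ca84212, 0x942128421284a10842508414e8420e, 0x849d0939d0741ce93a1293a10749d0, 0x839d093a507424e73a0e74a10949d0, 0x84a50749d0741d273a0e74a10749d0, 0x942128421284a10841508424e8420e, 0x849d0949d09425293a0e73a1094a50, 0x849d0939d0941ce74a0e74a1073a50, 0x839d0749d09424e74a1273a10749d0, 0x839d0739d0741d274a0e93a1094a50, 0x942128421282a10842508424e8420e, 0x839d094a50741d294a0e73a10739d0, 0x942128420a84a10842508424e8420e, 0x83a50949d0941ce73a0e93a10939d0, 0x84a5093a50941d274a1273a10949d0, 0x849d074a50941ce94a0e94a10949d0, 0x9420a8421284a10842508424e8420e, 0x849d074a50741ce73a1273a1093a50, 0x83a50949d0741ce94a1274a1094a50, 0x942128421284a10842508424e84216]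

def ims0 : List ℕ := [0xa42108421084210842108421084214, 0x8c6317bdf17c62f8c62f7be2f8bdf3, 0x8c5f18c5f17c6317c6318c62f8bdf3, 0x8c6318c6317c62f7c62f8be2f7c633, 0x842108421084210842108420c84214, 0x942128421284a1084250841ce84212, 0x8c5f18bdf17c5ef8be318be2f7c5f3, 0x8bdf18be317c62f7be2f7c62f8c5f3, 0x8c6317c5f17c5f17be2f7c62f7c5f3, 0x942128421284a10841d08424e84212, 0x8c5f18c5f18c6318be2f7be2f8c633, 0x8c5f18bdf18c5ef7c62f7c62f7be33, 0x8bdf17c5f18c62f7c6317be2f7c5f3, 0x8bdf17bdf17c5f17c62f8be2f8c633, 0x942128421283a10842508424e84212, 0x8bdf18c6317c5f18c62f7be2f7bdf3, 0x942128420e84a10842508424e84212, 0x8be318c5f18c5ef7be2f8be2f8bdf3, 0x8c6318be318c5f17c6317be2f8c5f3, 0x8c5f17c6318c5ef8c62f8c62f8c5f3, 0x9420e8421284a10842508424e84212, 0x8c5f17c6317c5ef7be317be2f8be33, 0x8be318c5f17c5ef8c6317c62f8c633, 0x942128421284a10842508424e84216, 0x8c5ef8c5ef7bdef7c5ef7bdef8c5ed, 0x9be318c5ef8bdef7c6317be2f8c5f1, 0x8bdf17c5ef7bdef8ce2f7be2f8c5ef, 0x8bdef8c5f17c5f17ce317be2f8c5f1,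 0x8421084a10841ce74a1083a1094a10, 0x8bdef7c5ef8c5ef7c62f8be2d8c5f1, 0x9421084212841d07425083a0e94210, 0x8c5f18c6317bdaf8c6317be2f8c5f1, 0x8bdef8c6318bdef7c62f7be2f8c5af, 0x8c5ef7c62f7c5b17c62f7be2f8c5ef, 0x9421084a10841ce842108424e9420e, 0x941d084a10842108425073a4e84210, 0x8bdf18c5ef7c5af7c62f7be2f8be31]

def cols1 : List ℕ := [0xb421284a12841d094a108421084212, 0x84a50941d073a0e8425293a5274a50, 0x839d09425094a1284252939d273a50, 0x83a50941d093a12841ce93a4e739d0, 0x84a509425093a12841ce749d274a50, 0x84a50941d074a12841d2949ce93a50, 0x84a507425094a0e841d294a52739d0, 0x839d09425093a0e841d294a4e94a50, 0x83a507425074a128424e94a4e74a50, 0x83a50741d094a0e841d2739ce74a50, 0x7421284a12841d092a108421084212, 0x7421284a0a841d094a108421084212, 0x83a509425074a12841d273a52949d0, 0x9421683a0e8425073a10842108420e, 0x849d0941d094a128425274a4e749d0, 0x83a50941d094a0e8424e949d2949d0, 0x7421284a12841d054a108421084212, 0x839d0741d073a12841d2949d2749d0, 0x7421282a12841d094a108421084212,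 0x849d0741d094a12841ce93a5294a50, 0x7421284a12842d094a108421084212, 0x83a50741d093a128425274a5293a50, 0x839d0941d074a0e841ce74a5273a50, 0x9420e83a0e8425073a108421084216]

def ims1 : List ℕ := [0xa42108421084210842108421084214, 0x8c62f8bdef7be2f7be318be317c633, 0x8bdef8be2f8c6317be318bdf17be33, 0x8be2f8bdef8be317bdef8be2f7bdf3, 0x8c62f8be2f8be317bdef7c5f17c633, 0x8c62f8bdef7c6317bdf18c5ef8be33, 0x8c62f7be2f8c62f7bdf18c6317bdf3, 0x8bdef8be2f8be2f7bdf18c62f8c633, 0x8be2f7be2f7c6317be2f8c62f7c633, 0x8be2f7bdef8c62f7bdf17bdef7c633, 0x842108421084210832108421084214, 0x842108420c84210842108421084214, 0x8be2f8be2f7c6317bdf17be318c5f3, 0x9421283a0e8425073a108421084212, 0x8c5ef8bdef8c6317be317c62f7c5f3, 0x8be2f8bdef8c62f7be2f8c5f18c5f3, 0x842108421084210642108421084214, 0x8bdef7bdef7be317bdf18c5f17c5f3, 0x842108321084210842108421084214, 0x8c5ef7bdef8c6317bdef8be318c633, 0x842108421084290842108421084214, 0x8be2f7bdef8be317be317c6318be33, 0x8bdef8bdef7c62f7bdef7c6317be33,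 0x9420e83a0e8425073a108421084216, 0x7be338c5f18c5f18c5f18c6317c62f, 0x8bdf18bdf17c5f17c5f17c6317c5f3, 0x84212941d084a10742108425284a10, 0x83a1293a1084a50842108421284212, 0x83a12839d084212841d08425284210, 0x842128421084252741d08421284a12, 0x84212839d0842528421284a1084212, 0x84210839d094a108421084a5284212, 0x7bdf18bdf18c6318c5f18c6318cdf1, 0x7be337bdf18c6317c62f8c6318c631, 0x7bdf17c5b18c6317c5f17c6317c631, 0x7be318c5f18c6317be317c6318c5f3, 0x83a12841ce842107421084a1284212]

def cols2 : List ℕ := [0xa421083a108420e83a1284a52841d4, 0x949ce94252939d0741d09421093a0e, 0x8421083a108420e64a12839ce851d0, 0x8421083a108428e84a0e83a52a4250, 0x74a4e941d2749d0742507421093a12, 0x739d27424e739d0741d07421093a12, 0x739d2941d293a50742509421073a12, 0x8421083a106420e83a0ea49ce84250, 0x749ce9425273a50941d07421074a12, 0x8421084a908420e84a8e849d2841d0, 0x939d2941d2739d0942507421094a0e, 0x8421083a108420ea4a12839ce831d0, 0x93a529425274a50741d07421073a0e, 0x8421084a108429283a12849cea41d0,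 0x8419083a108521283a0e839d2841d0, 0x8421083a10a420e83a0e649ce84250, 0x8421063a148421284a12849d284250, 0x8421083a908421283a9283a4e84250, 0x949ce741ce73a50742507421073a0e, 0x84210a3a0c8421284a12849d284250, 0x8521483a108421284a0e84a4e841d0, 0x8429083a108321283a0e839d2841d0, 0x8521484a108420e83a12839d284250, 0xa421084a108421284a0e839ce84254]

def ims2 : List ℕ := [0xa42108421084210842108421084214, 0x9c5ef8c6318bdf17c5ef8bdef8be31, 0x94210842108421074a10839ce84a12, 0x94210842108425084a0e83a1094252, 0x8c62f8c5f17c5f17c62f7bdef8be33, 0x8bdf17c62f7bdf17c5ef7bdef8be33, 0x8bdf18c5f18be317c62f8bdef7be33, 0x9421084210742108420e941ce84252, 0x8c5ef8c6317be318c5ef7bdef7c633, 0x9421084a508421084a4e841d084212, 0x9bdf18c5f17bdf18c62f7bdef8c631, 0x94210842108421094a10839ce83a12, 0x9be318c6317c6317c5ef7bdef7be31, 0x9421084a108425284210841ce94212, 0x941d08421084a128420e839d084212, 0x9421084210942108420e741ce84252, 0x94210742128421284a10841d084252, 0x9421084250842128425083a0e84252,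 0x9c5ef7c5ef7be317c62f7bdef7be31, 0x942109420e8421284a10841d084252, 0x94a12842108421284a0e8420e84212, 0x942508421083a128420e839d084212, 0x94a1284a108421084210839d084252, 0xa421084a108421284a0e839ce84254, 0x7c5f18b6317be2f7be317c5f18bdef, 0x9c5f17be317c6317be317bdf17be31, 0x8c5f18be318c6317bdf17c5b18be2f, 0x94a12842108425074210741ce84210, 0x8c6318be2f7be717be317bdf18be2f, 0x8c6318be317c6337c6317c5ef8be31, 0x8c5f17be2f7be337be2f7bdef8bdf1, 0x8c5f18bdef8be317be2f7bdb17be31, 0x8c5f18b62f7c6317be2f7c5ef7be2f, 0x84a1083a1083a5284210749d084210, 0x84a1283a508421284250841d284210, 0x9421283a12842128420e741d084210, 0x8c6317be318be318be317bdaf8be31]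


def cols : ℕ → List ℕ
  | 0 => cols0
  | 1 => cols1
  | _ => cols2

def ims : ℕ → List ℕ
  | 0 => ims0
  | 1 => ims1
  | _ => ims2

/-! ### the bit of a pair -/

/-! ### codes -/

theorem coe_U : ((Spor.leechU : leechLattice) : GolayPt → ℤ) = vec (cA 0) := by
  have h : ∀ p, Spor.vecU p = vec (cA 0) p := by decide +kernel
  exact funext h

/-! ### the generators -/

theorem rep_ok : ∀ t, checkRep 8 (cols t) (ims t) = true
  | 0 => by delta checkRep; rw [Cfsg.Agent.LeechMat.Quick.mat_eq]; decide +kernel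
  | 1 => by delta checkRep; rw [Cfsg.Agent.LeechMat.Quick.mat_eq]; decide +kernel
  | _ + 2 => by
    show checkRep 8 cols2 ims2 = true
    delta checkRep; rw [Cfsg.Agent.LeechMat.Quick.mat_eq]; decide +kernel

/-- the generator in `Co0` -/
noncomputable def gg (t : ℕ) : Co0 := (exists_rep (rep_ok t)).choose

theorem gg_rep (t : ℕ) : Rep 8 (cols t) (gg t) := (exists_rep (rep_ok t)).choose_spec

theorem fix_ok : ∀ t, fixes 8 (cols t) [cA 0] = true
  | 0 => by decide +kernel
  | 1 => by decide +kernel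
  | _ + 2 => by
    show fixes 8 cols2 [cA 0] = true
    decide +kernel

theorem gg_U (t : ℕ) : gg t • Spor.leechU = Spor.leechU :=
  fixes_sound (gg_rep t) (fix_ok t) List.mem_cons_self coe_U (by
    rw [coe_U, sqNorm_eq_dotInt, ← dotc_eq]
    decide +kernel)

/-- the generators of `Co2` -/
noncomputable def tt (t : ℕ) : Spor.Co2 := ⟨((gg t : Co0) : Equiv.Perm leechLattice), (gg t).2, gg_U t⟩

/-! ### action on codes -/

end Cfsg.Agent.H612.CoT.Gens
end

-- part: H253/TwoB/Link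
section
/-!
# 2.B: from `Spor.Co2` to the stabiliser of a vector of type 2 in `Co1` (helper253)

`F23h v l` : `l = [a, b]` with `a`, `b` fixing `v`, `⟨a, b⟩` containing an element of order 23 and an `h` with
`v ∈ [L2, h]`.  `F23t t₀ t₁ l` : the same inside `Spor.Co2` with `h` conjugate to `t₀` or `t₁`; `f23h_of`: the generators
`tt 0`, `tt 1` of helper612 satisfy `w + tt j • w = cl leechU`.
-/

set_option autoImplicit false
set_option maxRecDepth 100000

namespace Cfsg.Agent.H253.TwoB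

open Cfsg Cfsg.Spor Cfsg.Agent.LeechMat.Core Cfsg.Agent.LeechMat.Elements Cfsg.Agent.LeechMat.Orbit
  Cfsg.Agent.MonsterU.Lam2 Cfsg.Agent.H819.TypeTwo Cfsg.Agent.H612.CoT.Gens

/-- `l` is a commutator in the stabiliser of `v`, of a pair generating a group with an element of order 23 and an `h` with
`v ∈ [L2, h]` -/
def F23h (v : L2) (l : Co1) : Prop := ∃ a b : Co1, a • v = v ∧ b • v = v ∧ l = a * b * a⁻¹ * b⁻¹ ∧
  (∃ y ∈ Subgroup.closure ({a, b} : Set Co1), orderOf y = 23) ∧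
  ∃ h ∈ Subgroup.closure ({a, b} : Set Co1), ∃ w : L2, w + h • w = v

/-- `l = [a, b]`, `⟨a, b⟩` contains an element of order 23 and a conjugate of `t₀` or `t₁` -/
def F23t {L : Type*} [Group L] (t₀ t₁ l : L) : Prop := ∃ a b : L, l = a * b * a⁻¹ * b⁻¹ ∧
  (∃ y ∈ Subgroup.closure ({a, b} : Set L), orderOf y = 23) ∧
  ∃ h ∈ Subgroup.closure ({a, b} : Set L), ∃ x : L, h = x * t₀ * x⁻¹ ∨ h = x * t₁ * x⁻¹

theorem F23t.conj {L : Type*} [Group L] {t₀ t₁ l : L} (h : F23t t₀ t₁ l) (x : L) : F23t t₀ t₁ (x * l * x⁻¹) := by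
  obtain ⟨a, b, e, ⟨y, hy, hyr⟩, c, hc, u, hu⟩ := h
  have key : ∀ d ∈ Subgroup.closure ({a, b} : Set L),
      x * d * x⁻¹ ∈ Subgroup.closure ({x * a * x⁻¹, x * b * x⁻¹} : Set L) := by
    intro d hd
    have h1 : x * d * x⁻¹ ∈ (Subgroup.closure ({a, b} : Set L)).map (MulAut.conj x).toMonoidHom := ⟨d, hd, rfl⟩
    rw [MonoidHom.map_closure, Set.image_pair] at h1
    exact h1
  refine ⟨x * a * x⁻¹, x * b * x⁻¹, by rw [e]; group, ⟨x * y * x⁻¹, key y hy, ?_⟩, x * c * x⁻¹, key c hc, x * u, ?_⟩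
  · rw [← hyr]
    exact MulEquiv.orderOf_eq (MulAut.conj x) y
  · rcases hu with hu | hu
    · exact Or.inl (by rw [hu]; group)
    · exact Or.inr (by rw [hu]; group)

/-! ### the vectors -/

/-- the vectors `w₀`, `w₁` -/
def wc : ℕ → ℕ
  | 0 => 0x93a1284210741d28420e749d094212
  | _ => 0x8c62d8c6319bded6c5f18c62f7c5f3

/-- their images under `tt 0`, `tt 1` -/
def gc : ℕ → ℕ
  | 0 => 0x94a0e842109424e8421293a5074212
  | _ => 0x9bdef7bdf38c5af7be2f9cdf18be31

/-- the halves of `w + tt j • w - U` -/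
def yc : ℕ → ℕ
  | 0 => 0x842108421084210842108421084210
  | _ => 0x8420e84212941ce7421094a1084210

/-- the vector `w₀` or `w₁` -/
def wv (j : ℕ) (h : isLeech (wc j) = true) : leechLattice := ⟨vec (wc j), isLeech_sound h⟩

theorem link_aux (j : ℕ) (h1 : isLeech (wc j) = true) (h2 : isLeech (yc j) = true)
    (h3 : decide (dotc (wc j) (wc j) ≤ 225) = true) (h4 : Nat.blt (gc j) (32 ^ 24) = true)
    (h5 : (appc (cols j) (wc j) == (8 : ℤ) * val (gc j)) = true)
    (h6 : ∀ p, vec (wc j) p + vec (gc j) p - vec (cA 0) p = 2 * vec (yc j) p) :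
    ∃ w : L2, w + jCo2 (tt j) • w = cl leechU := by
  have e1 : ((gg j • (wv j h1) : leechLattice) : GolayPt → ℤ) = vec (gc j) :=
    (gg_rep j).step rfl (by
      show sqNorm (vec (wc j)) ≤ 225
      rw [sqNorm_eq_dotInt, ← dotc_eq]
      exact of_decide_eq_true h3) (by rwa [Nat.blt_eq] at h4) (beq_iff_eq.1 h5)
  refine ⟨cl (wv j h1), ?_⟩
  rw [jCo2_smul, ← map_add, cl_eq]
  refine ⟨⟨vec (yc j), isLeech_sound h2⟩, ?_⟩
  apply Subtype.ext
  funext p
  have e2 : ((tt j • (wv j h1) : leechLattice) : GolayPt → ℤ) = vec (gc j) := e1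
  have e3 := congrFun e2 p
  have e4 := congrFun coe_U p
  have e5 := h6 p
  show vec (wc j) p + ((tt j • (wv j h1) : leechLattice) : GolayPt → ℤ) p - ((leechU : leechLattice) : GolayPt → ℤ) p
    = ((2 • (⟨vec (yc j), isLeech_sound h2⟩ : leechLattice) : leechLattice) : GolayPt → ℤ) p
  rw [e3, e4, e5, two_smul]
  show _ = vec (yc j) p + vec (yc j) p
  ring

/-- **`w + tt j • w = cl leechU`**, `j = 0, 1` -/
theorem exists_w : ∀ j < 2, ∃ w : L2, w + jCo2 (tt j) • w = cl leechU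
  | 0, _ => link_aux 0 (by decide +kernel) (by decide +kernel) (by decide +kernel) (by decide +kernel)
      (by decide +kernel) (by decide +kernel)
  | 1, _ => link_aux 1 (by decide +kernel) (by decide +kernel) (by decide +kernel) (by decide +kernel)
      (by decide +kernel) (by decide +kernel)
  | _ + 2, h => absurd h (by omega)

/-! ### the link -/

theorem f23h_jCo2 {l : Spor.Co2} (h : F23t (tt 0) (tt 1) l) : F23h (cl leechU) (jCo2 l) := by
  obtain ⟨a, b, e, ⟨y, hy, hyr⟩, c, hc, u, hu⟩ := h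
  have key : ∀ d ∈ Subgroup.closure ({a, b} : Set Spor.Co2),
      jCo2 d ∈ Subgroup.closure ({jCo2 a, jCo2 b} : Set Co1) := by
    intro d hd
    have h1 : jCo2 d ∈ (Subgroup.closure ({a, b} : Set Spor.Co2)).map jCo2 := ⟨d, hd, rfl⟩
    rw [MonoidHom.map_closure, Set.image_pair] at h1
    exact h1
  refine ⟨jCo2 a, jCo2 b, jCo2_fix a, jCo2_fix b, by rw [e]; simp only [map_mul, map_inv], ⟨jCo2 y, key y hy, ?_⟩,
    jCo2 c, key c hc, ?_⟩
  · rw [orderOf_injective jCo2 jCo2_injective, hyr]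
  · have h2 : ∀ t : Spor.Co2, (∃ w : L2, w + jCo2 t • w = cl leechU) → c = u * t * u⁻¹ →
        ∃ w : L2, w + jCo2 c • w = cl leechU := by
      rintro t ⟨w, hw⟩ rfl
      refine ⟨jCo2 u • w, ?_⟩
      have e3 : jCo2 (u * t * u⁻¹) • jCo2 u • w = jCo2 u • jCo2 t • w := by
        rw [← mul_smul, ← mul_smul, ← map_mul, ← map_mul, inv_mul_cancel_right]
      rw [e3, ← smul_add, hw, jCo2_fix]
    rcases hu with hu | hu
    · exact h2 _ (exists_w 0 (by norm_num)) hu
    · exact h2 _ (exists_w 1 (by norm_num)) hu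

theorem F23h.conj {v : L2} {l : Co1} (h : F23h v l) (g : Co1) : F23h (g • v) (g * l * g⁻¹) := by
  obtain ⟨a, b, ha, hb, e, ⟨y, hy, hyr⟩, c, hc, w, hw⟩ := h
  have key : ∀ d ∈ Subgroup.closure ({a, b} : Set Co1),
      g * d * g⁻¹ ∈ Subgroup.closure ({g * a * g⁻¹, g * b * g⁻¹} : Set Co1) := by
    intro d hd
    have h1 : g * d * g⁻¹ ∈ (Subgroup.closure ({a, b} : Set Co1)).map (MulAut.conj g).toMonoidHom := ⟨d, hd, rfl⟩
    rw [MonoidHom.map_closure, Set.image_pair] at h1
    exact h1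
  have h3 : ∀ d : Co1, ∀ x : L2, (g * d * g⁻¹) • g • x = g • d • x := fun d x => by
    rw [← mul_smul, inv_mul_cancel_right, mul_smul]
  refine ⟨g * a * g⁻¹, g * b * g⁻¹, by rw [h3, ha], by rw [h3, hb], by rw [e]; group, ⟨g * y * g⁻¹, key y hy, ?_⟩,
    g * c * g⁻¹, key c hc, g • w, by rw [h3, ← smul_add, hw]⟩
  rw [← hyr]
  exact MulEquiv.orderOf_eq (MulAut.conj g) y

/-- **P4**: the table of `Spor.Co2` for all vectors of type 2. -/
theorem f23h_of (H : ∀ l : Spor.Co2, l ≠ 1 → ((∃ k, orderOf l = 2 ^ k) ∨ orderOf l = 3) → F23t (tt 0) (tt 1) l)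
    {v : L2} (hv : IsType 2 v) {l : Co1} (hl : l • v = v) (h1 : l ≠ 1)
    (ho : (∃ k, orderOf l = 2 ^ k) ∨ orderOf l = 3) : F23h v l := by
  have hU : IsType 2 (cl leechU) := ⟨leechU, sqNorm_leechU, rfl⟩
  obtain ⟨g0, hg⟩ := IsType.trans (Or.inl rfl) hU hv
  set g : Co1 := QuotientGroup.mk g0 with hgdef
  have hg' : g • cl leechU = v := by rw [hgdef, mk_smul]; exact hg
  have h2 : (g⁻¹ * l * g) • cl leechU = cl leechU := by
    rw [mul_smul, mul_smul, hg', hl, ← hg', inv_smul_smul]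
  obtain ⟨m, hm⟩ := exists_jCo2 h2
  have h3 : g * jCo2 m * g⁻¹ = l := by rw [hm]; group
  have h4 : orderOf m = orderOf l := by
    rw [← orderOf_injective jCo2 jCo2_injective, ← h3]
    exact (MulEquiv.orderOf_eq (MulAut.conj g) _).symm
  have h5 : m ≠ 1 := by
    rintro rfl
    apply h1
    rw [← h3, map_one, mul_one, mul_inv_cancel]
  rw [← h3, ← hg']
  exact (f23h_jCo2 (H m h5 (by rw [h4]; exact ho))).conj g

end Cfsg.Agent.H253.TwoB
end

private theorem dce_244ba40700af : _root_.True := by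
  try have : _root_.True := by simp only [_root_.Cfsg.Agent.LeechMat.Elements.orth.eq_1]
  try have : _root_.True := by simp only [_root_.Cfsg.Agent.LeechMat.Orbit.checkRep.eq_1]
  try have : _root_.True := by simp only [_root_.Cfsg.Agent.LeechMat.Elements.checkMat.eq_1]
  exact _root_.True.intro
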